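import Mathlib.RingTheory.DiscreteValuationRing.Basic
import Mathlib.RingTheory.PowerSeries.Trunc
import Mathlib.RingTheory.PowerSeries.Inverse

/-!
# Power series expansions in a discrete valuation ring with rational residue field
-/

set_option autoImplicit false
set_option linter.style.haveILetI false
set_option linter.unusedSectionVars false

universe u

open PowerSeries

noncomputable section

namespace PSSmoothingLib

variable {k : Type u} [Field k] {O : Type u} [CommRing O] [IsDomain O] [IsDiscreteValuationRing O] [Algebra k O]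
  (π : O)

/-- The series `f` is the expansion of `a`. -/
def IsExp (a : O) (f : PowerSeries k) : Prop :=
  ∀ n, π ^ n ∣ a - Polynomial.aeval π (trunc n f)

variable {π}

theorem pow_dvd_aeval {n : ℕ} {p : Polynomial k} (h : ∀ i < n, p.coeff i = 0) : π ^ n ∣ Polynomial.aeval π p := by
  obtain ⟨q, rfl⟩ : Polynomial.X ^ n ∣ p := Polynomial.X_pow_dvd_iff.2 h
  rw [map_mul, map_pow, Polynomial.aeval_X]
  exact dvd_mul_right _ _

theorem isExp_add {a b : O} {f g : PowerSeries k} (ha : IsExp π a f) (hb : IsExp π b g) : IsExp π (a + b) (f + g) :=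
  fun n => by rw [map_add, map_add, add_sub_add_comm]; exact dvd_add (ha n) (hb n)

theorem isExp_mul {a b : O} {f g : PowerSeries k} (ha : IsExp π a f) (hb : IsExp π b g) : IsExp π (a * b) (f * g) :=
  fun n => by
    have h : π ^ n ∣ Polynomial.aeval π (trunc n f) * Polynomial.aeval π (trunc n g) - Polynomial.aeval π (trunc n (f * g)) := by
      rw [← map_mul, ← map_sub]
      refine pow_dvd_aeval fun i hi => ?_
      rw [Polynomial.coeff_sub, sub_eq_zero]
      have h1 := congrArg (fun p : Polynomial k => p.coeff i)
        (trunc_trunc_mul_trunc (n := n) f g)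
      simp only [coeff_trunc, if_pos hi, ← Polynomial.coe_mul, Polynomial.coeff_coe] at h1
      rw [coeff_trunc, if_pos hi]
      exact h1
    rw [show a * b - Polynomial.aeval π (trunc n (f * g)) = (a - Polynomial.aeval π (trunc n f)) * b +
      Polynomial.aeval π (trunc n f) * (b - Polynomial.aeval π (trunc n g)) +
      (Polynomial.aeval π (trunc n f) * Polynomial.aeval π (trunc n g) - Polynomial.aeval π (trunc n (f * g))) by ring]
    exact dvd_add (dvd_add ((ha n).mul_right _) ((hb n).mul_left _)) h

theorem isExp_C (c : k) : IsExp π (algebraMap k O c) (C c) := fun n => by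
  rcases n with - | n
  · simp
  · rw [trunc_C, Polynomial.aeval_C, sub_self]; exact dvd_zero _

variable (ev : O →ₐ[k] k) (hπ : Irreducible π) (hev : ∀ a, ev a = 0 ↔ π ∣ a)
include hπ hev

theorem exp_unique {a : O} {f g : PowerSeries k} (hf : IsExp π a f) (hg : IsExp π a g) : f = g := by
  refine PowerSeries.ext fun n => ?_
  induction n using Nat.strong_induction_on with
  | h n ih =>
    have hn : trunc n f = trunc n g := Polynomial.ext fun i => by
      rw [coeff_trunc, coeff_trunc]
      split_ifs with h
      · exact ih i h
      · rfl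
    have h := dvd_sub (hf (n + 1)) (hg (n + 1))
    rw [trunc_succ, trunc_succ, hn, map_add, map_add, Polynomial.aeval_monomial, Polynomial.aeval_monomial,
      sub_sub_sub_cancel_left, add_sub_add_left_eq_sub, ← sub_mul, ← map_sub, pow_succ',
      mul_dvd_mul_iff_right (pow_ne_zero n hπ.ne_zero)] at h
    have h2 := (hev _).2 h
    rw [AlgHom.commutes] at h2
    exact (sub_eq_zero.1 (by simpa using h2)).symm

theorem exists_exp (a : O) : ∃ f : PowerSeries k, IsExp π a f := by
  have step : ∀ r : O, ∃ r', r = algebraMap k O (ev r) + π * r' := fun r => by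
    obtain ⟨r', hr'⟩ := (hev (r - algebraMap k O (ev r))).1 (by rw [map_sub, AlgHom.commutes]; simp)
    exact ⟨r', by rw [← hr']; ring⟩
  choose next hnext using step
  let r : ℕ → O := fun n => next^[n] a
  refine ⟨PowerSeries.mk fun n => ev (r n), fun n => ⟨r n, ?_⟩⟩
  induction n with
  | zero => simp [r]
  | succ n ih =>
    rw [trunc_succ, map_add, Polynomial.aeval_monomial, coeff_mk, ← sub_sub, ih,
      show r (n + 1) = next (r n) from Function.iterate_succ_apply' next n a]
    linear_combination (π ^ n) * hnext (r n)

theorem eq_zero_of_isExp_zero {a : O} (h : IsExp π a (0 : PowerSeries k)) : a = 0 := by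
  by_contra ha
  obtain ⟨n, u, rfl⟩ := IsDiscreteValuationRing.eq_unit_mul_pow_irreducible ha hπ
  have h1 := h (n + 1)
  rw [map_zero, map_zero, sub_zero, pow_succ', mul_dvd_mul_iff_right (pow_ne_zero n hπ.ne_zero)] at h1
  exact hπ.not_isUnit (isUnit_of_dvd_unit h1 u.isUnit)

theorem exists_hom : ∃ φ : O →ₐ[k] PowerSeries k, Function.Injective φ ∧
    ∀ a, PowerSeries.constantCoeff (φ a) = ev a := by
  choose F hF using exists_exp ev hπ hev
  have h1 : IsExp π (1 : O) (1 : PowerSeries k) := by simpa using (isExp_C (π := π) (1 : k))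
  have h0 : IsExp π (0 : O) (0 : PowerSeries k) := fun n => by simp
  refine ⟨{ toFun := F
            map_one' := exp_unique ev hπ hev (hF 1) h1
            map_mul' := fun a b => exp_unique ev hπ hev (hF _) (isExp_mul (hF a) (hF b))
            map_zero' := exp_unique ev hπ hev (hF 0) h0
            map_add' := fun a b => exp_unique ev hπ hev (hF _) (isExp_add (hF a) (hF b))
            commutes' := fun c => exp_unique ev hπ hev (hF _) (isExp_C c) },
    fun a b hab => ?_, fun a => ?_⟩
  · rw [← sub_eq_zero]
    refine eq_zero_of_isExp_zero ev hπ hev fun n => ?_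
    rw [map_zero, map_zero, sub_zero, show a - b = (a - Polynomial.aeval π (trunc n (F a))) -
      (b - Polynomial.aeval π (trunc n (F a))) by ring]
    exact dvd_sub (hF a n) (by rw [show F a = F b from hab]; exact hF b n)
  · have h := hF a 1
    rw [trunc_succ, trunc_zero', zero_add, Polynomial.aeval_monomial, pow_zero, mul_one, pow_one,
      ← hev, map_sub, AlgHom.commutes] at h
    rw [← coeff_zero_eq_constantCoeff_apply]
    exact (sub_eq_zero.1 h).symm

end PSSmoothingLib
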