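import Groth.Agent.PSSmoothingLib.Expansion
import Groth.Agent.HurwitzLib.SmoothCurve
import Mathlib.AlgebraicGeometry.Morphisms.Finite
import Mathlib.AlgebraicGeometry.Morphisms.Smooth

/-!
# Geometric smoothings give smoothings over the power series ring
-/

set_option autoImplicit false
set_option linter.style.haveILetI false
set_option maxHeartbeats 1000000

universe u

open CategoryTheory CategoryTheory.Limits AlgebraicGeometry

noncomputable section

namespace PSSmoothingLib

theorem isClosed_rational' {k : Type u} [Field k] {C : Scheme.{u}} (qC : C ⟶ Spec (CommRingCat.of k))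
    [LocallyOfFiniteType qC] (c : Spec (CommRingCat.of k) ⟶ C) (hc : c ≫ qC = 𝟙 _) :
    IsClosed ({c (IsLocalRing.closedPoint k)} : Set C) := by
  haveI : LocallyOfFiniteType (c ≫ qC) := by rw [hc]; infer_instance
  haveI : LocallyOfFiniteType c := locallyOfFiniteType_of_comp c qC
  haveI : JacobsonSpace C := LocallyOfFiniteType.jacobsonSpace qC
  exact mem_closedPoints_iff.1 (c.closePoints_subset_preimage_closedPoints (X := Spec (CommRingCat.of k))
    (show IsClosed ({IsLocalRing.closedPoint k} : Set (Spec (CommRingCat.of k))) by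
      rw [show ({IsLocalRing.closedPoint k} : Set (Spec (CommRingCat.of k))) = Set.univ from
        Set.eq_univ_of_forall fun y => Subsingleton.elim (α := PrimeSpectrum k) y _]
      exact isClosed_univ))

theorem main (k : Type u) [Field k] (X : Scheme.{u}) (pX : X ⟶ Spec (CommRingCat.of k))
    (C : Scheme.{u}) (qC : C ⟶ Spec (CommRingCat.of k)) (c : Spec (CommRingCat.of k) ⟶ C)
    (hc : c ≫ qC = 𝟙 (Spec (CommRingCat.of k))) [IsIntegral C] [Smooth qC]
    (hC : topologicalKrullDim C = 1)
    (Y : Scheme.{u}) (π : Y ⟶ C) [Flat π] [IsProper π] (j : X ⟶ Y) (hsq : IsPullback j pX π c)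
    (hgen : Smooth (π.fiberToSpecResidueField (genericPoint C))) :
    ∃ (P : Scheme.{u}) (p : P ⟶ Spec (CommRingCat.of (PowerSeries k))) (_ : Flat p) (_ : IsProper p)
      (i : X ⟶ P),
      IsPullback i pX p (Spec.map (CommRingCat.ofHom (PowerSeries.constantCoeff (R := k)))) ∧
      Smooth (pullback.snd p
        (Spec.map (CommRingCat.ofHom (algebraMap (PowerSeries k) (FractionRing (PowerSeries k)))))) := by
  letI : C.Over (Spec (CommRingCat.of k)) := ⟨qC⟩
  haveI : Smooth (C ↘ Spec (CommRingCat.of k)) := ‹Smooth qC›
  let x : C := c (IsLocalRing.closedPoint k)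
  haveI : IsDiscreteValuationRing (C.presheaf.stalk x) :=
    HurwitzLib.dvr_stalk_closed (k := k) hC (isClosed_rational' qC c hc)
  let al := Spec.preimage (C.fromSpecStalk x ≫ qC)
  letI : Algebra k (C.presheaf.stalk x) := al.hom.toAlgebra
  let ev0 := Scheme.stalkClosedPointTo c
  have hev0 : Spec.map ev0 ≫ C.fromSpecStalk x = c := Scheme.Spec_stalkClosedPointTo_fromSpecStalk c
  let ev : C.presheaf.stalk x →ₐ[k] k :=
    { ev0.hom with
      commutes' := fun a => by
        have h : al ≫ ev0 = 𝟙 _ := Spec.map_injective (by
          rw [Spec.map_comp, Spec.map_preimage, ← Category.assoc, hev0, hc, Spec.map_id])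
        exact RingHom.congr_fun (congrArg CommRingCat.Hom.hom h) a }
  obtain ⟨t, ht⟩ := IsDiscreteValuationRing.exists_irreducible (C.presheaf.stalk x)
  have hker : RingHom.ker ev.toRingHom = IsLocalRing.maximalIdeal (C.presheaf.stalk x) :=
    IsLocalRing.eq_maximalIdeal (RingHom.ker_isMaximal_of_surjective _ fun a => ⟨algebraMap k _ a, ev.commutes a⟩)
  have hev : ∀ a, ev a = 0 ↔ t ∣ a := fun a => by
    rw [← Ideal.mem_span_singleton, ← ht.maximalIdeal_eq, ← hker]
    exact Iff.rfl
  obtain ⟨φ, hφinj, hφc⟩ := exists_hom ev ht hev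
  let φ' : C.presheaf.stalk x ⟶ CommRingCat.of (PowerSeries k) := CommRingCat.ofHom φ.toRingHom
  let f : Spec (CommRingCat.of (PowerSeries k)) ⟶ C := Spec.map φ' ≫ C.fromSpecStalk x
  let cc := CommRingCat.ofHom (PowerSeries.constantCoeff (R := k))
  have hcf : Spec.map cc ≫ f = c := by
    rw [← Category.assoc, ← Spec.map_comp, show φ' ≫ cc = ev0 from CommRingCat.hom_ext (RingHom.ext hφc), hev0]
  refine ⟨pullback π f, pullback.snd π f, inferInstance, inferInstance,
    pullback.lift j (pX ≫ Spec.map cc) (by rw [Category.assoc, hcf, hsq.w]), ?_, ?_⟩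
  · refine IsPullback.of_right ?_ (pullback.lift_snd _ _ _) (IsPullback.of_hasPullback π f)
    rw [pullback.lift_fst, hcf]
    exact hsq
  · let L := FractionRing (PowerSeries k)
    let g : Spec (CommRingCat.of L) ⟶ Spec (CommRingCat.of (PowerSeries k)) :=
      Spec.map (CommRingCat.ofHom (algebraMap (PowerSeries k) L))
    have hpt : (g ≫ f) (IsLocalRing.closedPoint L) = genericPoint C := by
      obtain ⟨q, hq⟩ : genericPoint C ∈ Set.range (C.fromSpecStalk x) := by
        rw [Scheme.range_fromSpecStalk]
        exact (genericPoint_spec C).specializes trivial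
      refine (Specializes.antisymm ?_ ((genericPoint_spec C).specializes trivial)).eq
      rw [← hq]
      have hz : (g ≫ Spec.map φ') (IsLocalRing.closedPoint L) ⤳ q := by
        refine (PrimeSpectrum.le_iff_specializes _ _).1 ?_
        intro a ha
        have h : algebraMap (PowerSeries k) L (φ a) ∈ IsLocalRing.maximalIdeal L := ha
        have this : algebraMap (PowerSeries k) L (φ a) = 0 := by
          by_contra hne
          exact (IsLocalRing.mem_maximalIdeal _).1 h (isUnit_iff_ne_zero.2 hne)
        have ha0 : a = 0 := hφinj (IsFractionRing.injective (PowerSeries k) L (by rw [this, map_zero, map_zero]))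
        rw [ha0]
        exact zero_mem _
      exact hz.map (C.fromSpecStalk x).continuous
    obtain ⟨e, he⟩ : ∃ e : C.residueField (genericPoint C) ⟶ CommRingCat.of L,
        Spec.map e ≫ C.fromSpecResidueField (genericPoint C) = g ≫ f := by
      have h := (Scheme.SpecToEquivOfField L C).symm_apply_apply (g ≫ f)
      generalize hs : Scheme.SpecToEquivOfField L C (g ≫ f) = s at h
      obtain ⟨y, e⟩ := s
      have hy : y = genericPoint C := by
        have h1 := congrArg Sigma.fst hs
        exact h1.symm.trans hpt
      subst hy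
      exact ⟨e, h⟩
    haveI : Smooth (pullback.snd π (C.fromSpecResidueField (genericPoint C))) := hgen
    have h1 : IsPullback (pullback.fst (pullback.snd π (C.fromSpecResidueField (genericPoint C))) (Spec.map e) ≫
        pullback.fst π (C.fromSpecResidueField (genericPoint C)))
        (pullback.snd (pullback.snd π (C.fromSpecResidueField (genericPoint C))) (Spec.map e)) π
        (Spec.map e ≫ C.fromSpecResidueField (genericPoint C)) :=
      (IsPullback.of_hasPullback _ _).paste_horiz (IsPullback.of_hasPullback _ _)
    rw [he] at h1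
    have h2 : IsPullback (pullback.fst (pullback.snd π f) g ≫ pullback.fst π f)
        (pullback.snd (pullback.snd π f) g) π (g ≫ f) :=
      (IsPullback.of_hasPullback _ _).paste_horiz (IsPullback.of_hasPullback _ _)
    rw [show pullback.snd (pullback.snd π f) g = (h2.isoIsPullback _ _ h1).hom ≫
      pullback.snd (pullback.snd π (C.fromSpecResidueField (genericPoint C))) (Spec.map e) from
      (h2.isoIsPullback_hom_snd _ _ h1).symm]
    infer_instance

end PSSmoothingLib
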